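import Cfsg.Agent.Lib.Co1Surj52.Pair
import Mathlib.GroupTheory.Index
import Mathlib.Data.Set.Card
import Mathlib.Data.ZMod.Basic
import Mathlib.Algebra.BigOperators.Ring.Finset

/-!
# Involutions that control their fusion into a subgroup

`S` contains the centraliser of `z`. We show that it contains the centralisers of the other two
kinds of involutions and conclude that it is the whole group.

Owner: helper52.
-/

set_option autoImplicit false

namespace Cfsg.Agent.Lib.Co1Surj52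

variable {G : Type*} [Group G]

/-- The only conjugators of `x` into `S` lie in `S`. -/
def Sole (S : Subgroup G) (x : G) : Prop := ∀ g : G, g⁻¹ * x * g ∈ S → g ∈ S

theorem Sole.conj {S : Subgroup G} {x h : G} (hx : Sole S x) (hh : h ∈ S) :
    Sole S (h * x * h⁻¹) := by
  intro g hg
  have h1 : (h⁻¹ * g)⁻¹ * x * (h⁻¹ * g) ∈ S := by
    rw [show (h⁻¹ * g)⁻¹ * x * (h⁻¹ * g) = g⁻¹ * (h * x * h⁻¹) * g by group]
    exact hg
  simpa using mul_mem hh (hx _ h1)

theorem Sole.of_cent {S : Subgroup G} {x : G}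
    (hfus : ∀ y ∈ S, IsConj x y → ∃ h ∈ S, h * x * h⁻¹ = y)
    (hc : ∀ g, g * x = x * g → g ∈ S) : Sole S x := by
  intro g hg
  obtain ⟨h, hh, e⟩ := hfus _ hg (isConj_iff.2 ⟨g⁻¹, by rw [inv_inv]⟩)
  have h1 : g * h ∈ S := hc _ (by
    rw [← mul_inv_eq_iff_eq_mul, show g * h * x * (g * h)⁻¹ = g * (h * x * h⁻¹) * g⁻¹ by group, e]
    group)
  simpa using mul_mem h1 (inv_mem hh)

theorem Sole.mem_of_commute {S : Subgroup G} {x g : G} (hx : Sole S x) (hxS : x ∈ S)
    (h : g * x = x * g) : g ∈ S :=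
  hx g (by rw [mul_assoc, ← h, inv_mul_cancel_left]; exact hxS)

theorem Sole.mem_of_conj {S : Subgroup G} {x g : G} (hx : Sole S x)
    (h : g * x * g⁻¹ ∈ S) : g ∈ S :=
  inv_mem_iff.1 (hx g⁻¹ (by rwa [inv_inv]))

/-- The number of `v ∈ V` with `u v` conjugate to `z`. -/
noncomputable def zcount (z : G) (V : Subgroup G) (u : G) : ℕ :=
  {v | v ∈ V ∧ IsConj z (u * v)}.ncard

/-- The elementary abelian subgroup with two kinds of involutions. -/
structure ADatum (S A : Subgroup G) (z c : G) : Prop where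
  sole_z : ∀ x ∈ S, IsConj z x → Sole S x
  A_le : A ≤ S
  c_mem : c ∈ A
  c_ne : c ≠ 1
  sq : ∀ a ∈ A, a * a = 1
  cases : ∀ a ∈ A, a ≠ 1 → IsConj z a ∨ IsConj c a
  nzc : ¬ IsConj z c
  normA : ∀ k ∈ S, ∀ a ∈ A, ∀ a' ∈ A, IsConj c a → IsConj c a' → k * a * k⁻¹ = a' →
    ∀ x ∈ A, k * x * k⁻¹ ∈ A
  odd : ∀ V : Subgroup G, V ≤ A → (∀ v ∈ V, v ≠ 1 → IsConj c v) →
    ∃ u ∈ A, IsConj z u ∧ Odd (zcount z V u)
  diff : ∀ V : Subgroup G, V ≤ A → (∀ v ∈ V, v ≠ 1 → IsConj c v) → V ≠ ⊥ →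
    ∀ n, ∃ w ∈ A, IsConj z w ∧ zcount z V w ≠ n

namespace ADatum

variable [Finite G] {S A : Subgroup G} {z c : G} (d : ADatum S A z c)
include d

omit [Finite G] in
theorem comm {a b : G} (ha : a ∈ A) (hb : b ∈ A) : a * b = b * a := by
  have h := d.sq _ (mul_mem ha hb)
  rw [← inv_eq_of_mul_eq_one_right h, mul_inv_rev, inv_eq_of_mul_eq_one_right (d.sq a ha),
    inv_eq_of_mul_eq_one_right (d.sq b hb)]

/-- A pure subgroup of `A` has all its conjugators into `A` inside `S`. -/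
theorem pure_control : ∀ (n : ℕ) (V : Subgroup G), Nat.card A - Nat.card V < n → V ≤ A → c ∈ V →
    (∀ v ∈ V, v ≠ 1 → IsConj c v) → ∀ g : G, (∀ v ∈ V, g⁻¹ * v * g ∈ A) → g ∈ S := by
  intro n
  induction n with
  | zero => intro V h; omega
  | succ n ih =>
    intro V hlt hVA hcV hpure g hg
    by_contra hgS
    set V₀ : Subgroup G := V.map (MulAut.conj g⁻¹).toMonoidHom with hV₀
    have hV₀mem : ∀ x, x ∈ V₀ ↔ g * x * g⁻¹ ∈ V := fun x => by
      rw [hV₀]
      constructor
      · rintro ⟨v, hv, rfl⟩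
        simp only [MulEquiv.coe_toMonoidHom, MulAut.conj_apply, inv_inv]
        rwa [show g * (g⁻¹ * v * g) * g⁻¹ = v by group]
      · intro hx
        refine ⟨_, hx, ?_⟩
        simp only [MulEquiv.coe_toMonoidHom, MulAut.conj_apply, inv_inv]
        group
    have hV₀A : V₀ ≤ A := fun x hx => by
      have h := hg _ ((hV₀mem x).1 hx)
      rwa [show g⁻¹ * (g * x * g⁻¹) * g = x by group] at h
    have hc₀ : g⁻¹ * c * g ∈ V₀ := (hV₀mem _).2 (by
      rwa [show g * (g⁻¹ * c * g) * g⁻¹ = c by group])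
    have hc₀t : IsConj c (g⁻¹ * c * g) := isConj_iff.2 ⟨g⁻¹, by rw [inv_inv]⟩
    have hV₀pure : ∀ x ∈ V₀, x ≠ 1 → IsConj c x := fun x hx hx1 =>
      (hpure _ ((hV₀mem x).1 hx) fun e => hx1 (conj_eq_one_iff.1 e)).trans
        (isConj_iff.2 ⟨g⁻¹, by group⟩)
    have hV₀ne : V₀ ≠ ⊥ := fun e => by
      rw [e, Subgroup.mem_bot] at hc₀
      exact d.c_ne (by rw [show c = g * (g⁻¹ * c * g) * g⁻¹ by group, hc₀]; group)
    obtain ⟨u, huA, huz, hodd⟩ := d.odd V hVA hpure
    obtain ⟨w, hwA, hwz, hne⟩ := d.diff V₀ hV₀A hV₀pure hV₀ne (zcount z V u)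
    set L := Subgroup.centralizer (V : Set G) with hL
    have hLmem : ∀ {k : G}, k ∈ L ↔ ∀ x ∈ V, x * k = k * x := fun {k} =>
      Subgroup.mem_centralizer_iff
    have huL : u ∈ L := hLmem.2 fun x hx => d.comm (hVA hx) huA
    set v := g * w * g⁻¹ with hv
    have hvL : v ∈ L := hLmem.2 fun x hx => by
      have e := d.comm (hg x hx) hwA
      calc x * v = g * (g⁻¹ * x * g * w) * g⁻¹ := by rw [hv]; group
        _ = g * (w * (g⁻¹ * x * g)) * g⁻¹ := by rw [e]
        _ = v * x := by rw [hv]; group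
    have hu2 := d.sq u huA
    have hv2 : v * v = 1 := by
      rw [hv, show g * w * g⁻¹ * (g * w * g⁻¹) = g * (w * w) * g⁻¹ by group, d.sq w hwA]
      group
    -- the two counts are invariants of the classes in `L`
    have hinv : ∀ k ∈ L, ∀ t, zcount z V (k * t * k⁻¹) = zcount z V t := by
      intro k hk t
      refine congrArg Set.ncard (Set.ext fun x => and_congr_right fun hx => ?_)
      have e : k * t * k⁻¹ * x = k * (t * x) * k⁻¹ := by
        rw [mul_assoc _ k⁻¹ x, show k⁻¹ * x = x * k⁻¹ from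
          (hLmem.1 (inv_mem hk) x hx).symm]
        group
      rw [e]
      exact ⟨fun h => h.trans (isConj_iff.2 ⟨k⁻¹, by group⟩),
        fun h => h.trans (isConj_iff.2 ⟨k, rfl⟩)⟩
    have hvcount : zcount z V v = zcount z V₀ w := by
      refine Set.ncard_congr (fun x _ => g⁻¹ * x * g) ?_ ?_ ?_
      · rintro x ⟨hx, hz⟩
        refine ⟨(hV₀mem _).2 (by rwa [show g * (g⁻¹ * x * g) * g⁻¹ = x by group]),
          hz.trans (isConj_iff.2 ⟨g⁻¹, by rw [hv]; group⟩)⟩
      · intro a b _ _ e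
        simpa using e
      · rintro y ⟨hy, hz⟩
        exact ⟨g * y * g⁻¹, ⟨(hV₀mem y).1 hy, hz.trans (isConj_iff.2 ⟨g, by rw [hv]; group⟩)⟩,
          by group⟩
    have hnc : ∀ k ∈ L, k * u * k⁻¹ ≠ v := fun k hk e =>
      hne (by rw [← hvcount, ← e, hinv k hk])
    obtain ⟨e, heL, he1, he2, heu, hev, ⟨k, hkL, hk⟩, ⟨k', hk'L, hk'⟩⟩ :=
      exists_central huL hvL hu2 hv2 hnc
    have su : Sole S u := d.sole_z u (d.A_le huA) huz
    have sw : Sole S w := d.sole_z w (d.A_le hwA) hwz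
    have heS : e ∈ S := su.mem_of_commute (d.A_le huA) heu
    have heS₀ : g⁻¹ * e * g ∈ S := sw.mem_of_commute (d.A_le hwA) (by
      calc g⁻¹ * e * g * w = g⁻¹ * (e * v) * g := by rw [hv]; group
        _ = g⁻¹ * (v * e) * g := by rw [hev]
        _ = w * (g⁻¹ * e * g) := by rw [hv]; group)
    have hcL : ∀ {k : G}, k ∈ L → k * c * k⁻¹ = c := fun {k} hk =>
      mul_inv_eq_iff_eq_mul.2 (hLmem.1 hk c hcV).symm
    have hue : u * e ∈ S := mul_mem (d.A_le huA) heS
    -- `e` lies in `A`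
    have heA : e ∈ A := by
      have key : u * e ∈ A := by
        rcases hk with hk | hk
        · have hkS : k ∈ S := su.mem_of_conj (hk ▸ hue)
          rw [← hk]
          exact d.normA k hkS c d.c_mem c d.c_mem (IsConj.refl c) (IsConj.refl c) (hcL hkL) u huA
        · have e1 : k * g * w * (k * g)⁻¹ = u * e := by rw [← hk, hv]; group
          have hkS : k * g ∈ S := sw.mem_of_conj (e1 ▸ hue)
          rw [← e1]
          refine d.normA _ hkS _ (hV₀A hc₀) c d.c_mem hc₀t (IsConj.refl c) ?_ w hwA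
          rw [show k * g * (g⁻¹ * c * g) * (k * g)⁻¹ = k * c * k⁻¹ by group, hcL hkL]
      have := mul_mem huA key
      rwa [← mul_assoc, hu2, one_mul] at this
    have heA₀ : g⁻¹ * e * g ∈ A := by
      have hve : g⁻¹ * (v * e) * g ∈ S := by
        rw [show g⁻¹ * (v * e) * g = w * (g⁻¹ * e * g) by rw [hv]; group]
        exact mul_mem (d.A_le hwA) heS₀
      have key : g⁻¹ * (v * e) * g ∈ A := by
        rcases hk' with hk' | hk'
        · have e1 : g⁻¹ * k' * u * (g⁻¹ * k')⁻¹ = g⁻¹ * (v * e) * g := by rw [← hk']; group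
          have hkS : g⁻¹ * k' ∈ S := su.mem_of_conj (e1 ▸ hve)
          rw [← e1]
          refine d.normA _ hkS c d.c_mem _ (hV₀A hc₀) (IsConj.refl c) hc₀t ?_ u huA
          rw [show g⁻¹ * k' * c * (g⁻¹ * k')⁻¹ = g⁻¹ * (k' * c * k'⁻¹) * g by group, hcL hk'L]
        · have e1 : g⁻¹ * k' * g * w * (g⁻¹ * k' * g)⁻¹ = g⁻¹ * (v * e) * g := by
            rw [← hk', hv]; group
          have hkS : g⁻¹ * k' * g ∈ S := sw.mem_of_conj (e1 ▸ hve)
          rw [← e1]
          refine d.normA _ hkS _ (hV₀A hc₀) _ (hV₀A hc₀) hc₀t hc₀t ?_ w hwA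
          rw [show g⁻¹ * k' * g * (g⁻¹ * c * g) * (g⁻¹ * k' * g)⁻¹ =
            g⁻¹ * (k' * c * k'⁻¹) * g by group, hcL hk'L]
      have := mul_mem hwA key
      rwa [show w * (g⁻¹ * (v * e) * g) = (w * w) * (g⁻¹ * e * g) by rw [hv]; group, d.sq w hwA,
        one_mul] at this
    -- `e` lies outside `V`
    have heV : e ∉ V := by
      intro heV
      have hshift : zcount z V (u * e) = zcount z V u := by
        refine Set.ncard_congr (fun x _ => e * x) ?_ ?_ ?_
        · rintro x ⟨hx, hz⟩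
          exact ⟨mul_mem heV hx, by rwa [← mul_assoc]⟩
        · intro a b _ _ h
          exact mul_left_cancel h
        · rintro y ⟨hy, hz⟩
          exact ⟨e * y, ⟨mul_mem heV hy, by rwa [← mul_assoc, mul_assoc u e e, he2, mul_one]⟩,
            by rw [← mul_assoc, he2, one_mul]⟩
      rcases hk with hk | hk
      · -- a free involution on an odd set
        have hset : ∀ x, (x ∈ V ∧ IsConj z (u * x)) → (e * x ∈ V ∧ IsConj z (u * (e * x))) := by
          rintro x ⟨hx, hz⟩
          refine ⟨mul_mem heV hx, hz.trans (isConj_iff.2 ⟨k, ?_⟩)⟩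
          rw [show k * (u * x) * k⁻¹ = k * u * k⁻¹ * (k * x * k⁻¹) by group, hk,
            show k * x * k⁻¹ = x from mul_inv_eq_iff_eq_mul.2 (hLmem.1 hkL x hx).symm, mul_assoc]
        let T := Set.toFinite {x | x ∈ V ∧ IsConj z (u * x)}
        have heven : Even T.toFinset.card := by
          rw [← ZMod.natCast_eq_zero_iff_even, Finset.card_eq_sum_ones, Nat.cast_sum]
          refine Finset.sum_involution (fun x _ => e * x) (fun x _ => by decide)
            (fun x _ _ h => he1 (mul_eq_right.1 h)) (fun x hx => ?_)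
            (fun x _ => by rw [← mul_assoc, he2, one_mul])
          simpa using hset x (by simpa using hx)
        rw [← Set.ncard_eq_toFinset_card _ T] at heven
        exact Nat.not_even_iff_odd.2 hodd heven
      · refine hne ?_
        rw [← hvcount, ← hshift, ← hk, hinv k hkL]
    -- a larger pure subgroup
    set V' := V ⊔ Subgroup.zpowers e with hV'
    have hV'A : V' ≤ A := sup_le hVA (Subgroup.zpowers_le.2 heA)
    have hV'g : ∀ x ∈ V', g⁻¹ * x * g ∈ A := fun x hx => by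
      have h : V' ≤ A.comap (MulAut.conj g⁻¹).toMonoidHom :=
        sup_le (fun y hy => by simpa using hg y hy) (Subgroup.zpowers_le.2 (by simpa using heA₀))
      simpa using h hx
    have hcard : Nat.card V < Nat.card V' := by
      by_contra h
      exact heV ((Subgroup.eq_of_le_of_card_ge le_sup_left (not_lt.1 h)).symm ▸
        Subgroup.mem_sup_right (Subgroup.mem_zpowers e))
    have hle : Nat.card V' ≤ Nat.card A := Subgroup.card_le_of_le hV'A
    refine hgS (ih V' (by omega) hV'A (Subgroup.mem_sup_left hcV) (fun x hx hx1 => ?_) g hV'g)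
    exact (d.cases x (hV'A hx) hx1).resolve_left fun hz =>
      hgS (d.sole_z x (d.A_le (hV'A hx)) hz g (d.A_le (hV'g x hx)))

theorem cent_c_le {g : G} (h : g * c = c * g) : g ∈ S := by
  have hpow : ∀ x ∈ Subgroup.zpowers c, x = 1 ∨ x = c := by
    rintro _ ⟨n, rfl⟩
    rcases Int.even_or_odd' n with ⟨m, rfl | rfl⟩
    · left; show c ^ (2 * m) = 1; rw [zpow_mul, zpow_two, d.sq c d.c_mem, one_zpow]
    · right; show c ^ (2 * m + 1) = c
      rw [zpow_add, zpow_mul, zpow_two, d.sq c d.c_mem, one_zpow, one_mul, zpow_one]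
  refine d.pure_control _ (Subgroup.zpowers c) (Nat.lt_succ_self _)
    (Subgroup.zpowers_le.2 d.c_mem) (Subgroup.mem_zpowers c)
    (fun v hv hv1 => by rw [(hpow v hv).resolve_left hv1]) g fun v hv => ?_
  rcases hpow v hv with rfl | rfl
  · rw [mul_one, inv_mul_cancel]; exact one_mem A
  · rw [mul_assoc, ← h, inv_mul_cancel_left]; exact d.c_mem

end ADatum

/-- Lifts of the third kind of involutions. -/
structure BDatum (S : Subgroup G) (z c b : G) {H : Type*} [Group H] (φ : H →* G) (n J U W : H) :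
    Prop where
  range : φ.range = S
  ker : ∀ x, φ x = 1 → x = 1 ∨ x = n
  n_map : φ n = 1
  n_comm : ∀ x, n * x = x * n
  n_sq : n * n = 1
  n_ne : n ≠ 1
  map_J : φ J = b
  J_sq : J * J = n
  U_sq : U * U = 1
  W_sq : W * W = 1
  U_comm : U * J = J * U
  W_comm : W * J = J * W
  U_z : IsConj z (φ U)
  W_c : IsConj c (φ W)
  b_sq : ∀ x, IsConj b (φ x) → x * x = n

namespace BDatum

variable [Finite G] {S : Subgroup G} {z c b : G} {H : Type*} [Group H] {φ : H →* G} {n J U W : H}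

/-- The centraliser of the third involution lies in `S`. -/
theorem cent_b_le (d : BDatum S z c b φ n J U W) (hnzc : ¬ IsConj z c)
    (hall : ∀ x : G, x * x = 1 → x ≠ 1 → IsConj z x ∨ IsConj c x ∨ IsConj b x)
    (hsole : ∀ x ∈ S, (IsConj z x ∨ IsConj c x) → Sole S x) {g : G} (hg : g * b = b * g) :
    g ∈ S := by
  by_contra hgS
  have hmem : ∀ x, φ x ∈ S := fun x => d.range ▸ ⟨x, rfl⟩
  have hbt : ∀ x ∈ S, x * x = 1 → x ≠ 1 → g⁻¹ * x * g ∈ S → IsConj b x := fun x hx h2 h1 hgx =>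
    (hall x h2 h1).elim (fun h => absurd (hsole x hx (Or.inl h) g hgx) hgS)
      (fun h => h.elim (fun h => absurd (hsole x hx (Or.inr h) g hgx) hgS) id)
  set u := φ U with hudef
  set w := φ W with hwdef
  have su : Sole S u := hsole u (hmem U) (Or.inl d.U_z)
  have sw : Sole S w := hsole w (hmem W) (Or.inr d.W_c)
  have hu2 : u * u = 1 := by rw [hudef, ← map_mul, d.U_sq, map_one]
  have hw2 : w * w = 1 := by rw [hwdef, ← map_mul, d.W_sq, map_one]
  have hub : u * b = b * u := by rw [hudef, ← d.map_J, ← map_mul, d.U_comm, map_mul]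
  have hwb : w * b = b * w := by rw [hwdef, ← d.map_J, ← map_mul, d.W_comm, map_mul]
  set L := Subgroup.centralizer ({b} : Set G) with hL
  have hLmem : ∀ {k : G}, k ∈ L ↔ k * b = b * k := fun {k} =>
    Subgroup.mem_centralizer_singleton_iff
  have hgL : g ∈ L := hLmem.2 hg
  set v := g * w * g⁻¹ with hv
  have hvL : v ∈ L := mul_mem (mul_mem hgL (hLmem.2 hwb)) (inv_mem hgL)
  have hv2 : v * v = 1 := by
    rw [hv, show g * w * g⁻¹ * (g * w * g⁻¹) = g * (w * w) * g⁻¹ by group, hw2]; group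
  have hwv : IsConj c v := d.W_c.trans (isConj_iff.2 ⟨g, rfl⟩)
  obtain ⟨e, heL, he1, he2, heu, hev, ⟨k, hkL, hk⟩, -⟩ :=
    exists_central (hLmem.2 hub) hvL hu2 hv2 fun k _ h =>
      hnzc ((d.U_z.trans (isConj_iff.2 ⟨k, h⟩)).trans hwv.symm)
  have heS : e ∈ S := su.mem_of_commute (hmem U) heu
  have heS₀ : g⁻¹ * e * g ∈ S := sw.mem_of_commute (hmem W) (by
    calc g⁻¹ * e * g * w = g⁻¹ * (e * v) * g := by rw [hv]; group
      _ = g⁻¹ * (v * e) * g := by rw [hev]
      _ = w * (g⁻¹ * e * g) := by rw [hv]; group)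
  have heb : IsConj b e := hbt e heS he2 he1 heS₀
  -- a lift of `u e` conjugate under the lift of `C_S(b)` to `U` or `W`
  obtain ⟨s, T, hsb, hT2, hTJ, hse⟩ : ∃ s T : H, φ s * b = b * φ s ∧ T * T = 1 ∧
      T * J = J * T ∧ φ (s * T * s⁻¹) = u * e := by
    have hue : u * e ∈ S := mul_mem (hmem U) heS
    rcases hk with hk | hk
    · obtain ⟨s, hs⟩ := d.range.symm ▸ su.mem_of_conj (hk ▸ hue)
      exact ⟨s, U, by rw [hs]; exact hLmem.1 hkL, d.U_sq, d.U_comm,
        by rw [map_mul, map_mul, map_inv, hs, ← hudef, hk]⟩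
    · have e1 : k * g * w * (k * g)⁻¹ = u * e := by rw [← hk, hv]; group
      obtain ⟨s, hs⟩ := d.range.symm ▸ sw.mem_of_conj (e1 ▸ hue)
      exact ⟨s, W, by rw [hs]; exact hLmem.1 (mul_mem hkL hgL), d.W_sq, d.W_comm,
        by rw [map_mul, map_mul, map_inv, hs, ← hwdef, e1]⟩
  set T' := s * T * s⁻¹ with hT'
  have hT'2 : T' * T' = 1 := by
    rw [hT', show s * T * s⁻¹ * (s * T * s⁻¹) = s * (T * T) * s⁻¹ by group, hT2]; group
  have hsJ : s * J * s⁻¹ = J ∨ s * J * s⁻¹ = n * J := by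
    have h : φ (s * J * s⁻¹ * J⁻¹) = 1 := by
      simp only [map_mul, map_inv, d.map_J]
      rw [hsb]; group
    rcases d.ker _ h with h | h
    · exact Or.inl (mul_inv_eq_one.1 h)
    · exact Or.inr (mul_inv_eq_iff_eq_mul.1 h)
  have hTJ' : Commute T' J := by
    have h : Commute T' (s * J * s⁻¹) :=
      (show Commute T J from hTJ).map (MulAut.conj s).toMonoidHom
    rcases hsJ with e1 | e1 <;> rw [e1] at h
    · exact h
    · have h' : Commute T' (n * (n * J)) := (show Commute T' n from (d.n_comm T').symm).mul_right h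
      rwa [← mul_assoc, d.n_sq, one_mul] at h'
  have hUJ : Commute U J := d.U_comm
  have hEJ : Commute (U * T') J := hUJ.mul_left hTJ'
  have hE : φ (U * T') = e := by rw [map_mul, hse, ← hudef, ← mul_assoc, hu2, one_mul]
  have hE2 : U * T' * (U * T') = n := d.b_sq _ (hE.symm ▸ heb)
  have hnU : ∀ x : H, Commute n x := d.n_comm
  by_cases heq : e = b
  · -- the lift of `b` commutes with `U`
    have h : φ (U * T' * J⁻¹) = 1 := by
      rw [map_mul, hE, map_inv, d.map_J, heq, mul_inv_cancel]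
    have hU : Commute (U * T') U := by
      rcases d.ker _ h with e1 | e1
      · rw [mul_inv_eq_one.1 e1]; exact hUJ.symm
      · rw [mul_inv_eq_iff_eq_mul.1 e1]; exact (hnU U).mul_left hUJ.symm
    have h2 : Commute T' U := by
      have h3 := (Commute.refl U).mul_left hU
      rwa [← mul_assoc, d.U_sq, one_mul] at h3
    refine d.n_ne ?_
    rw [← hE2, h2.mul_mul_mul_comm, d.U_sq, hT'2, one_mul]
  · -- the product with `b` lifts to an involution
    have hbc : e * b = b * e := hLmem.1 heL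
    have hb2 : b * b = 1 := by rw [← d.map_J, ← map_mul, d.J_sq, d.n_map]
    have hgeb : g⁻¹ * (e * b) * g = g⁻¹ * e * g * b := by
      rw [mul_assoc _ (e * b) g, mul_assoc e b g, ← hg]; group
    have hbS : b ∈ S := d.map_J ▸ hmem J
    have hEb : IsConj b (φ (U * T' * J)) := by
      rw [map_mul, hE, d.map_J]
      refine hbt _ (mul_mem heS hbS) ?_ (fun h => heq ?_) (hgeb ▸ mul_mem heS₀ hbS)
      · rw [Commute.mul_mul_mul_comm (show Commute b e from hbc.symm), he2, hb2, one_mul]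
      · rw [eq_inv_of_mul_eq_one_left h, inv_eq_of_mul_eq_one_right hb2]
    have h3 := d.b_sq _ hEb
    rw [hEJ.symm.mul_mul_mul_comm, hE2, d.J_sq, d.n_sq] at h3
    exact d.n_ne h3.symm

end BDatum

/-- If every involution of `S` has its conjugators inside, `S` is everything. -/
theorem eq_top_of_sole [Finite G] {S : Subgroup G} {z c : G} (hz : z * z = 1) (hc : c * c = 1)
    (hzS : z ∈ S) (hcS : c ∈ S) (hnzc : ¬ IsConj z c)
    (hsole : ∀ x ∈ S, x * x = 1 → x ≠ 1 → Sole S x) (hz1 : z ≠ 1) (hc1 : c ≠ 1) : S = ⊤ := by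
  refine (Subgroup.eq_top_iff' S).2 fun g => ?_
  by_contra hgS
  set v := g * c * g⁻¹ with hv
  have hv2 : v * v = 1 := by
    rw [hv, show g * c * g⁻¹ * (g * c * g⁻¹) = g * (c * c) * g⁻¹ by group, hc]; group
  obtain ⟨e, -, he1, he2, hez, hev, -, -⟩ :=
    exists_central (L := ⊤) (Subgroup.mem_top z) (Subgroup.mem_top v) hz hv2 fun k _ h =>
      hnzc ((isConj_iff.2 ⟨k, h⟩).trans (isConj_iff.2 ⟨g⁻¹, by rw [hv]; group⟩))
  have heS : e ∈ S := (hsole z hzS hz hz1).mem_of_commute hzS hez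
  refine hgS (hsole e heS he2 he1 g ?_)
  refine (hsole c hcS hc hc1).mem_of_commute hcS ?_
  calc g⁻¹ * e * g * c = g⁻¹ * (e * v) * g := by rw [hv]; group
    _ = g⁻¹ * (v * e) * g := by rw [hev]
    _ = c * (g⁻¹ * e * g) := by rw [hv]; group

end Cfsg.Agent.Lib.Co1Surj52
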