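import Cfsg.Agent.Lib.Golay.DodecadOctads
import Cfsg.Agent.Lib.Leech.CodeSets
import Cfsg.Agent.Lib.Co2Cent.Oct

/-!
# Octads against a family of dodecads: a parity and a sum

Owner: helper52.
-/

set_option autoImplicit false

namespace Cfsg.Agent.Lib.Co1Surj52

open Cfsg Cfsg.Agent.Lib.Golay Cfsg.Agent.Lib.Co2Cent Cfsg.Agent.Lib.SporStruct.Masks

/-- The three octads of a trio. -/
def trio : Fin 3 → Finset GolayPt :=
  ![setOfMask 5279, setOfMask 1009728, setOfMask 15762208]

theorem trio_mem (i : Fin 3) : trio i ∈ octads := by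
  fin_cases i
  all_goals exact ⟨isCode_mask (by decide +kernel), by decide +kernel⟩

theorem trio_split : ∀ p : GolayPt, (p ∈ trio 0 ∧ p ∉ trio 1 ∧ p ∉ trio 2) ∨
    (p ∉ trio 0 ∧ p ∈ trio 1 ∧ p ∉ trio 2) ∨ (p ∉ trio 0 ∧ p ∉ trio 1 ∧ p ∈ trio 2) := by
  decide +kernel

theorem trio_sum (d : Finset GolayPt) :
    (trio 0 ∩ d).card + (trio 1 ∩ d).card + (trio 2 ∩ d).card = d.card := by
  have h : ∀ p, ((if p ∈ trio 0 then 1 else 0) + (if p ∈ trio 1 then 1 else 0) +
      (if p ∈ trio 2 then 1 else 0) : ℕ) = 1 := fun p => by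
    rcases trio_split p with ⟨a, b, c⟩ | ⟨a, b, c⟩ | ⟨a, b, c⟩ <;> simp [a, b, c]
  have hk : ∀ i, (trio i ∩ d).card = ∑ p ∈ d, if p ∈ trio i then 1 else 0 := fun i => by
    rw [Finset.inter_comm, ← Finset.filter_mem_eq_inter, Finset.card_filter]
  rw [hk, hk, hk, ← Finset.sum_add_distrib, ← Finset.sum_add_distrib,
    Finset.sum_congr rfl fun p _ => h p, Finset.sum_const, smul_eq_mul, mul_one]

variable {ι : Type*}

/-- Some octad meets an even number of the dodecads in two or six points. -/
theorem exists_even_count (s : Finset ι) (D : ι → Finset GolayPt)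
    (hD : ∀ x ∈ s, D x ∈ dodecads) :
    ∃ o ∈ octads, Even (s.filter fun x => (o ∩ D x).card ≠ 4).card := by
  by_contra hno
  push Not at hno
  have hodd : ∀ i, Odd (s.filter fun x => (trio i ∩ D x).card ≠ 4).card := fun i =>
    Nat.not_even_iff_odd.1 (hno _ (trio_mem i))
  have heven : Even ((s.filter fun x => (trio 0 ∩ D x).card ≠ 4).card +
      (s.filter fun x => (trio 1 ∩ D x).card ≠ 4).card +
      (s.filter fun x => (trio 2 ∩ D x).card ≠ 4).card) := by
    rw [Finset.card_filter, Finset.card_filter, Finset.card_filter, ← Finset.sum_add_distrib,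
      ← Finset.sum_add_distrib]
    refine Finset.even_sum _ fun x hx => ?_
    have hd := hD x hx
    have hsum := trio_sum (D x)
    rw [hd.2] at hsum
    rcases inter_octad_dodecad (trio_mem 0) hd with a | a | a <;>
      rcases inter_octad_dodecad (trio_mem 1) hd with b | b | b <;>
        rcases inter_octad_dodecad (trio_mem 2) hd with c | c | c <;>
          rw [a, b, c] at hsum ⊢ <;> first | omega | decide
  exact Nat.not_even_iff_odd.2 (((hodd 0).add_odd (hodd 1)).add_odd (hodd 2)) heven

theorem ncard_not_four {d : Finset GolayPt} (hd : d ∈ dodecads) :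
    (octads.toFinite.toFinset.filter fun o => (o ∩ d).card ≠ 4).card = 264 := by
  classical
  have h2 := ncard_meeting_four hd
  have h4 := ncard_octads
  have hf : (octads.toFinite.toFinset.filter fun o => (o ∩ d).card = 4) =
      (octadsMeeting d 4).toFinite.toFinset := by
    ext o
    simp [octadsMeeting]
  have hsum := Finset.card_filter_add_card_filter_not (s := octads.toFinite.toFinset)
    (fun o => (o ∩ d).card = 4)
  rw [hf, ← Set.ncard_eq_toFinset_card _ _, ← Set.ncard_eq_toFinset_card _ _, h2, h4] at hsum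
  simp only [ne_eq] at hsum ⊢
  omega

/-- The counts are not constant over the octads unless 23 divides the size of the family. -/
theorem exists_ne_count (s : Finset ι) (D : ι → Finset GolayPt)
    (hD : ∀ x ∈ s, D x ∈ dodecads) (hs : ¬ 23 ∣ s.card) (n : ℕ) :
    ∃ o ∈ octads, (s.filter fun x => (o ∩ D x).card ≠ 4).card ≠ n := by
  by_contra hno
  push Not at hno
  have h1 : ∑ o ∈ octads.toFinite.toFinset, (s.filter fun x => (o ∩ D x).card ≠ 4).card =
      759 * n := by
    rw [Finset.sum_congr rfl fun o ho => hno o (by simpa using ho), Finset.sum_const, smul_eq_mul,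
      ← Set.ncard_eq_toFinset_card, ncard_octads]
  have h2 : ∑ o ∈ octads.toFinite.toFinset, (s.filter fun x => (o ∩ D x).card ≠ 4).card =
      s.card * 264 := by
    simp only [Finset.card_filter]
    rw [Finset.sum_comm, ← smul_eq_mul, ← Finset.sum_const]
    refine Finset.sum_congr rfl fun x hx => ?_
    rw [← Finset.card_filter]
    exact ncard_not_four (hD x hx)
  refine hs ((show Nat.Coprime 23 264 by decide).dvd_of_dvd_mul_right ⟨33 * n, ?_⟩)
  omega

end Cfsg.Agent.Lib.Co1Surj52
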