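import Cfsg.Agent.Lib.LeechMod2.Frame
import Cfsg.Agent.Lib.Golay.DodecadOctads
import Cfsg.Agent.Lib.Leech.Transitive

/-!
# A lattice automorphism mapping one dodecad sign change to another preserves the cross

Owner: helper52.
-/

set_option autoImplicit false

namespace Cfsg.Agent.Lib.Co1Surj52

open Cfsg Cfsg.Agent.Lib.Leech Cfsg.Agent.Lib.LeechMod2 Finset

/-- The vector `4 e i ± 4 e j`. -/
def twoFours (i j : GolayPt) (s : Bool) : leechLattice :=
  ⟨_, four_pm_mem (i := i) (j := j) 1 (bif s then 1 else -1) (by cases s <;> norm_num)⟩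

theorem twoFours_apply (i j : GolayPt) (s : Bool) (k : GolayPt) :
    vec (twoFours i j s) k =
      (if k = i then 4 else 0) + (if k = j then (bif s then 4 else -4) else 0) := by
  cases s <;> simp [twoFours, vec, Pi.single_apply]

theorem sqNorm_twoFours {i j : GolayPt} (h : i ≠ j) (s : Bool) :
    sqNorm (vec (twoFours i j s)) = 32 := by
  rw [sqNorm, ← Finset.sum_subset (Finset.subset_univ {i, j}) (fun k _ hk => ?_)]
  · rw [Finset.sum_pair h, twoFours_apply, twoFours_apply]
    cases s <;> simp [h, h.symm]
  · simp only [Finset.mem_insert, Finset.mem_singleton, not_or] at hk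
    simp [twoFours_apply, hk.1, hk.2]

theorem twoFours_add {i j : GolayPt} :
    twoFours i j true + twoFours i j false = eightE i := by
  apply Subtype.ext
  funext k
  show vec (twoFours i j true) k + vec (twoFours i j false) k = vec (eightE i) k
  rw [twoFours_apply, twoFours_apply, eightE_apply]
  split_ifs <;> simp

theorem flip_neg_of_supp {c : Finset GolayPt} (hc : IsCode c) {v : leechLattice}
    (h : ∀ k, k ∉ c → vec v k = 0) : flip c hc • v = -v := by
  apply Subtype.ext
  funext k
  show vec (flip c hc • v) k = -vec v k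
  rw [flip_smul]
  split_ifs with hk
  · rfl
  · rw [h k hk]; rfl

/-- A vector of norm 32 inside a dodecad has exactly two coordinates `±4`. -/
theorem four_pair {e : Finset GolayPt} (he : e ∈ dodecads) {v : leechLattice}
    (hn : sqNorm (vec v) = 32) (hsupp : ∀ k, k ∉ e → vec v k = 0) :
    (∀ k, vec v k = 0 ∨ vec v k = 4 ∨ vec v k = -4) ∧
      (univ.filter fun k => vec v k ≠ 0).card = 2 := by
  obtain ⟨k₀, hk₀⟩ : ∃ k, k ∉ e := by
    by_contra hno
    push Not at hno
    have := he.2
    rw [Finset.eq_univ_iff_forall.mpr hno, Finset.card_univ, card_pt] at this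
    omega
  have hv : EvenVec (vec v) := evenVec_of_parity (i := k₀) (by rw [hsupp k₀ hk₀]; rfl)
  have hsub : res 2 (vec v) ⊆ e := fun k hk => by
    by_contra hke
    rw [mem_res, hsupp k hke] at hk
    simp at hk
  have hge := norm_ge hv
  have h0 : (res 2 (vec v)).card = 0 := by
    rcases hv.2.1.weights with h | h | h | h | h
    · exact h
    · exfalso
      have h8 : (res 2 (vec v) ∩ e).card = 8 := by rw [Finset.inter_eq_left.mpr hsub, h]
      rcases Golay.inter_octad_dodecad (o := res 2 (vec v)) ⟨hv.2.1, h⟩ he with a | a | a <;> omega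
    all_goals (rw [h] at hge; rw [hn] at hge; omega)
  have hval : ∀ k, vec v k = 0 ∨ vec v k = 4 ∨ vec v k = -4 := fun k => by
    have h1 := four_of_empty hv h0 k
    have h2 := coord_le (v := v) (i := k) (N := 32) (B := 5) hn.le (by norm_num) (by norm_num)
    omega
  refine ⟨hval, ?_⟩
  have hsum : sqNorm (vec v) = 16 * ((univ.filter fun k => vec v k ≠ 0).card : ℤ) := by
    rw [sqNorm, Finset.sum_congr rfl fun k _ => show vec v k ^ 2 =
      16 * (if vec v k ≠ 0 then 1 else 0) by
        rcases hval k with e | e | e <;> rw [e] <;> norm_num,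
      ← Finset.mul_sum, Finset.sum_boole]
  omega

/-- Only monomial elements carry a dodecad sign change to a dodecad sign change. -/
theorem axis_of_dodecad {g : Co0} {d e : Finset GolayPt} (hd : d ∈ dodecads) (he : e ∈ dodecads)
    (h : g * flip d hd.1 = flip e he.1 * g) : Axis g := by
  have hsupp : ∀ v : leechLattice, (∀ k, k ∉ d → vec v k = 0) →
      ∀ k, k ∉ e → vec (g • v) k = 0 := by
    intro v hv k hk
    have h1 := congrArg (fun y : Co0 => y • v) h
    simp only [mul_smul, flip_neg_of_supp hd.1 hv, smul_neg'] at h1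
    have h2 : -vec (g • v) k = vec (flip e he.1 • g • v) k := congrFun (congrArg vec h1) k
    have h3 : vec (flip e he.1 • g • v) k = if k ∈ e then -vec (g • v) k else vec (g • v) k :=
      flip_smul he.1 (g • v) k
    rw [if_neg hk] at h3
    omega
  obtain ⟨i, hi⟩ : ∃ i, i ∈ d := Finset.card_pos.mp (by rw [hd.2]; norm_num)
  by_contra hax
  set x := g • eightE i with hx
  have hxn : sqNorm (vec x) = 64 := by rw [hx, norm_smul', sqNorm_eightE]
  have h8 : ∀ k, vec x k ≠ 8 ∧ vec x k ≠ -8 := by
    intro k
    refine not_or.mp fun h8 => hax ?_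
    exact axis_of_one (i := i) (j := k) (by rw [← hx]; exact eq_single_of_eight hxn h8)
  -- each other point of the dodecad gives a pair inside the support of `x`
  have hpair : ∀ j ∈ d.erase i,
      (univ.filter fun k => vec (g • twoFours i j true) k ≠ 0).card = 2 ∧
      (univ.filter fun k => vec x k ≠ 0).card = 4 ∧
      ∀ k, vec (g • twoFours i j true) k = 0 ∨ vec (g • twoFours i j true) k = vec x k := by
    intro j hj
    obtain ⟨hne, hjd⟩ := Finset.mem_erase.mp hj
    have hin : ∀ s, ∀ k, k ∉ d → vec (twoFours i j s) k = 0 := fun s k hk => by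
      rw [twoFours_apply, if_neg (fun e : k = i => hk (e ▸ hi)),
        if_neg (fun e : k = j => hk (e ▸ hjd)), add_zero]
    have hn : ∀ s, sqNorm (vec (g • twoFours i j s)) = 32 := fun s => by
      rw [norm_smul', sqNorm_twoFours (Ne.symm hne)]
    obtain ⟨hv, hvc⟩ := four_pair he (hn true) (hsupp _ (hin true))
    obtain ⟨hw, hwc⟩ := four_pair he (hn false) (hsupp _ (hin false))
    set v := g • twoFours i j true with hvdef
    set w := g • twoFours i j false with hwdef
    have hsum : ∀ k, vec x k = vec v k + vec w k := fun k => by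
      have e1 : x = v + w := by rw [hvdef, hwdef, ← smul_add', twoFours_add]
      rw [e1]; rfl
    -- the pair is disjoint from its partner
    have hdot : ∑ k, vec v k * vec w k = 0 := by
      have e1 : sqNorm (vec x) = ∑ k, (vec v k ^ 2 + vec w k ^ 2 + 2 * (vec v k * vec w k)) :=
        Finset.sum_congr rfl fun k _ => by rw [hsum k]; ring
      rw [Finset.sum_add_distrib, Finset.sum_add_distrib, ← Finset.mul_sum,
        show (∑ k, vec v k ^ 2) = 32 from hn true, show (∑ k, vec w k ^ 2) = 32 from hn false,
        hxn] at e1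
      omega
    have hnonpos : ∀ k, vec v k * vec w k ≤ 0 := fun k => by
      obtain ⟨a, b⟩ := h8 k
      rw [hsum k] at a b
      rcases hv k with e1 | e1 | e1 <;> rcases hw k with e2 | e2 | e2 <;>
        rw [e1, e2] at a b ⊢ <;> simp_all
    have hzero : ∀ k, vec v k * vec w k = 0 := fun k =>
      (Finset.sum_eq_zero_iff_of_nonpos fun k _ => hnonpos k).mp hdot k (Finset.mem_univ k)
    have hor : ∀ k, vec v k = 0 ∨ vec v k = vec x k := fun k => by
      rcases mul_eq_zero.mp (hzero k) with e1 | e1
      · exact Or.inl e1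
      · exact Or.inr (by rw [hsum k, e1, add_zero])
    refine ⟨hvc, ?_, hor⟩
    have hunion : (univ.filter fun k => vec x k ≠ 0) =
        (univ.filter fun k => vec v k ≠ 0) ∪ (univ.filter fun k => vec w k ≠ 0) := by
      ext k
      simp only [Finset.mem_filter, Finset.mem_univ, true_and, Finset.mem_union]
      rw [hsum k]
      rcases mul_eq_zero.mp (hzero k) with e1 | e1 <;> simp [e1]
    rw [hunion, Finset.card_union_of_disjoint, hvc, hwc]
    rw [Finset.disjoint_left]
    intro k h1 h2
    simp only [Finset.mem_filter, Finset.mem_univ, true_and] at h1 h2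
    exact (mul_ne_zero h1 h2) (hzero k)
  obtain ⟨j₀, hj₀⟩ : (d.erase i).Nonempty :=
    Finset.card_pos.mp (by rw [Finset.card_erase_of_mem hi, hd.2]; norm_num)
  have h4 := (hpair j₀ hj₀).2.1
  set X := univ.filter fun k => vec x k ≠ 0 with hX
  have hmaps : ∀ j ∈ d.erase i,
      (univ.filter fun k => vec (g • twoFours i j true) k ≠ 0) ∈ X.powersetCard 2 := by
    intro j hj
    refine Finset.mem_powersetCard.mpr ⟨fun k hk => ?_, (hpair j hj).1⟩
    simp only [hX, Finset.mem_filter, Finset.mem_univ, true_and] at hk ⊢
    rw [← ((hpair j hj).2.2 k).resolve_left hk]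
    exact hk
  have hle := Finset.card_le_card_of_injOn
    (fun j => univ.filter fun k => vec (g • twoFours i j true) k ≠ 0)
    (fun j hj => hmaps j hj) (s := d.erase i) ?_
  · rw [Finset.card_erase_of_mem hi, hd.2, Finset.card_powersetCard, h4] at hle
    exact absurd hle (by decide)
  intro j hj j' hj' hjj
  have heq : g • twoFours i j true = g • twoFours i j' true := by
    apply Subtype.ext
    funext k
    show vec (g • twoFours i j true) k = vec (g • twoFours i j' true) k
    have hk := Finset.ext_iff.mp hjj k
    simp only [Finset.mem_filter, Finset.mem_univ, true_and] at hk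
    rcases (hpair j hj).2.2 k with a | a <;> rcases (hpair j' hj').2.2 k with b | b
    · rw [a, b]
    · rw [a] at hk
      simp only [ne_eq, not_true_eq_false, false_iff, not_not] at hk
      rw [a, hk]
    · rw [b] at hk
      simp only [ne_eq, not_true_eq_false, iff_false, not_not] at hk
      rw [b, hk]
    · rw [a, b]
  have e := congrFun (congrArg vec (smul_left_cancel g heq)) j
  have hne : j ≠ i := (Finset.mem_erase.mp hj).1
  rw [twoFours_apply, twoFours_apply] at e
  by_contra hjne
  simp [hne, hjne] at e

end Cfsg.Agent.Lib.Co1Surj52
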