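import Cfsg.Agent.Lib.Co1Surj52.Cross
import Cfsg.Agent.Lib.Co1Cent.Main
import Cfsg.Agent.Lib.Leech.Dichotomy
import Cfsg.Agent.Lib.Golay.Stabilizers

/-!
# The sign changes modulo the centre: classes, normaliser and the lift of the third involution

Owner: helper52.
-/

set_option autoImplicit false

namespace Cfsg.Agent.Lib.Co1Surj52

open Cfsg Cfsg.Agent.Lib.Leech Cfsg.Agent.Lib.LeechMod2 Cfsg.Agent.Lib.Co1Cent
open Cfsg.Agent.Lib.Co2Cent Cfsg.Agent.Lib.Golay Cfsg.Agent.Lib.SporStruct.Masks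
open scoped Pointwise symmDiff

/-- The sign change on a code set, modulo the centre. -/
noncomputable def fl (s : Finset GolayPt) (hs : IsCode s) : Spor.Co1 :=
  Frame.bar (Leech.flip s hs)

theorem flip_inj {s t : Finset GolayPt} (hs : IsCode s) (ht : IsCode t)
    (h : Leech.flip s hs = Leech.flip t ht) : s = t := by
  have h1 : Leech.monomialMap ((1 : M24), (⟨s, hs⟩ : {c : Finset GolayPt // IsCode c})) =
      Leech.monomialMap ((1 : M24), (⟨t, ht⟩ : {c : Finset GolayPt // IsCode c})) :=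
    Subtype.ext h
  exact congrArg Subtype.val (congrArg Prod.snd (Leech.monomialMap_bijective.1 h1))

theorem fl_congr {s t : Finset GolayPt} (hs : IsCode s) (ht : IsCode t) (h : s = t) :
    fl s hs = fl t ht := by subst h; rfl

theorem fl_mul {s t : Finset GolayPt} (hs : IsCode s) (ht : IsCode t) :
    fl s hs * fl t ht = fl (s ∆ t) (hs.symmDiff ht) := by
  rw [fl, fl, fl, ← map_mul, Leech.flip_mul]

theorem fl_univ : fl Finset.univ isCode_univ = 1 := Frame.bar_eq_one.2 negOne_mem_center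

theorem fl_empty : fl ∅ isCode_empty = 1 := by
  rw [fl, ← map_one Frame.bar]
  congr 1

theorem fl_compl {s : Finset GolayPt} (hs : IsCode s) (hc : IsCode sᶜ) : fl sᶜ hc = fl s hs := by
  rw [← one_mul (fl s hs), ← fl_univ, fl_mul]
  refine fl_congr _ _ ?_
  ext p
  simp [Finset.mem_symmDiff]

theorem fl_mem_diagBar {s : Finset GolayPt} (hs : IsCode s) : fl s hs ∈ Frame.diagBar :=
  ⟨_, Frame.flip_mem_diag s hs, rfl⟩

theorem fl_mul_self {s : Finset GolayPt} (hs : IsCode s) : fl s hs * fl s hs = 1 :=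
  Frame.diagBar_elem (fl_mem_diagBar hs)

theorem fl_eq_one {s : Finset GolayPt} (hs : IsCode s) (h : fl s hs = 1) :
    s.card = 0 ∨ s.card = 24 := by
  rcases center_co0_eq (Frame.bar_eq_one.1 h) with e | e
  · left
    have h0 : Leech.flip s hs = Leech.flip ∅ isCode_empty := by
      rw [e]
      refine co0_ext fun i => Subtype.ext (funext fun k => ?_)
      show vec ((1 : Co0) • eightE i) k = vec (Leech.flip ∅ isCode_empty • eightE i) k
      rw [flip_smul, one_smul]
      simp
    rw [flip_inj hs isCode_empty h0]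
    rfl
  · right
    rw [flip_inj hs isCode_univ e, Finset.card_univ, Leech.card_pt]

theorem fl_conj {σ : Equiv.Perm GolayPt} (hσ : σ ∈ M24) {s t : Finset GolayPt} (hs : IsCode s)
    (ht : IsCode t) (e : σ • s = t) : IsConj (fl s hs) (fl t ht) := by
  refine isConj_iff.2 ⟨Frame.bar (monomial σ hσ ∅ isCode_empty), ?_⟩
  rw [mul_inv_eq_iff_eq_mul, fl, fl, ← map_mul, ← map_mul, monomial_mul_flip hσ hs ht e]

/-- The standard dodecad. -/
def dod0 : Finset GolayPt := setOfMask 5169370

theorem dod0_mem : dod0 ∈ dodecads :=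
  ⟨isCode_mask (by decide +kernel), by decide +kernel⟩

/-- The involution of dodecad type. -/
noncomputable def c0 : Spor.Co1 := fl dod0 dod0_mem.1

theorem oct_conj {o : Finset GolayPt} (ho : o ∈ octads) : IsConj z1 (fl o ho.1) := by
  obtain ⟨σ, hσ, e⟩ := transitive_octads baseOctad_mem ho
  have h := fl_conj hσ oct_isCode ho.1 e
  have hz : z1 = fl oct oct_isCode := (fl_compl oct_isCode off_compl.1 :)
  rwa [hz]

theorem dod_conj {d : Finset GolayPt} (hd : d ∈ dodecads) : IsConj c0 (fl d hd.1) := by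
  obtain ⟨σ, hσ, e⟩ := transitive_dodecads dod0_mem hd
  exact fl_conj hσ dod0_mem.1 hd.1 e

theorem fl_cases {s : Finset GolayPt} (hs : IsCode s) :
    fl s hs = 1 ∨ (∃ o, ∃ ho : o ∈ octads, fl s hs = fl o ho.1) ∨ s ∈ dodecads := by
  rcases hs.weights with h | h | h | h | h
  · exact Or.inl ((fl_congr hs isCode_empty (Finset.card_eq_zero.1 h)).trans fl_empty)
  · exact Or.inr (Or.inl ⟨s, ⟨hs, h⟩, rfl⟩)
  · exact Or.inr (Or.inr ⟨hs, h⟩)
  · exact Or.inr (Or.inl ⟨sᶜ, ⟨hs.compl, by rw [Finset.card_compl, Leech.card_pt, h]⟩,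
      (fl_compl hs hs.compl).symm⟩)
  · exact Or.inl ((fl_congr hs isCode_univ
      (Finset.eq_univ_of_card s (by rw [h, Leech.card_pt]))).trans fl_univ)

theorem diag_cases {x : Spor.Co1} (hx : x ∈ Frame.diagBar) :
    x = 1 ∨ (∃ o, ∃ ho : o ∈ octads, x = fl o ho.1) ∨ ∃ d, ∃ hd : d ∈ dodecads, x = fl d hd.1 := by
  obtain ⟨g, hg, rfl⟩ := hx
  obtain ⟨s, hs, rfl⟩ := Frame.mem_diag_iff.1 hg
  rcases fl_cases hs with h | h | h
  · exact Or.inl h
  · exact Or.inr (Or.inl h)
  · exact Or.inr (Or.inr ⟨s, h, rfl⟩)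

/-- The product of an octad change and a dodecad change, by their intersection. -/
theorem fl_oct_dod {o d : Finset GolayPt} (ho : o ∈ octads) (hd : d ∈ dodecads) :
    ((o ∩ d).card ≠ 4 → ∃ o', ∃ ho' : o' ∈ octads, fl o ho.1 * fl d hd.1 = fl o' ho'.1) ∧
    ((o ∩ d).card = 4 → ∃ d', ∃ hd' : d' ∈ dodecads, fl o ho.1 * fl d hd.1 = fl d' hd'.1) := by
  have hc : IsCode (o ∆ d) := IsCode.symmDiff ho.1 hd.1
  have hsum := Leech.card_symmDiff_add o d
  have := ho.2
  have := hd.2
  rw [fl_mul ho.1 hd.1]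
  refine ⟨fun h4 => ?_, fun h4 => ⟨_, ⟨hc, by omega⟩, rfl⟩⟩
  rcases inter_octad_dodecad ho hd with h | h | h
  · exact ⟨(o ∆ d)ᶜ, ⟨hc.compl, by rw [Finset.card_compl, Leech.card_pt]; omega⟩,
      (fl_compl hc hc.compl).symm⟩
  · exact absurd h h4
  · exact ⟨o ∆ d, ⟨hc, by omega⟩, rfl⟩

/-- A conjugation carrying a dodecad change to a dodecad change comes from the cross stabiliser. -/
theorem mem_cross_of_dodecad {k : Spor.Co1} {d e : Finset GolayPt} (hd : d ∈ dodecads)
    (he : e ∈ dodecads) (h : k * fl d hd.1 * k⁻¹ = fl e he.1) : k ∈ crossGroup.map Frame.bar := by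
  obtain ⟨g, rfl⟩ := Frame.bar_surjective k
  refine ⟨g, ?_, rfl⟩
  unfold fl at h
  rw [mul_inv_eq_iff_eq_mul, ← map_mul, ← map_mul] at h
  have hc : (Leech.flip e he.1 * g)⁻¹ * (g * Leech.flip d hd.1) ∈ Subgroup.center Co0 := by
    rw [← Frame.bar_eq_one, map_mul, map_inv, h, inv_mul_cancel]
  rcases center_co0_eq hc with a | a
  · exact axis_of_dodecad hd he (inv_mul_eq_one.1 a).symm
  · have he' : eᶜ ∈ dodecads := compl_mem_dodecads_aux he
    refine axis_of_dodecad hd he' ?_
    have a' : g * Leech.flip d hd.1 = negOne * (Leech.flip e he.1 * g) :=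
      (inv_mul_eq_iff_eq_mul.1 a).trans (Subgroup.mem_center_iff.1 negOne_mem_center _)
    rw [a', ← mul_assoc]
    congr 1
    refine (Leech.flip_mul isCode_univ he.1).trans ?_
    refine Leech.flip_congr _ _ ?_
    ext p
    simp [Finset.mem_symmDiff]

theorem cross_norm {k x : Spor.Co1} (hk : k ∈ crossGroup.map Frame.bar)
    (hx : x ∈ Frame.diagBar) : k * x * k⁻¹ ∈ Frame.diagBar := by
  obtain ⟨g, hg, rfl⟩ := hk
  obtain ⟨a, ha, rfl⟩ := hx
  exact ⟨g * a * g⁻¹, Frame.cross_conj_diag hg ha, by simp⟩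

theorem not_conj_z1_c0 : ¬ IsConj z1 c0 := by
  intro h
  obtain ⟨k, hk⟩ := isConj_iff.1 h
  have hle : C1.map (MulAut.conj k).toMonoidHom ≤ crossGroup.map Frame.bar := by
    rintro _ ⟨x, hx, rfl⟩
    refine mem_cross_of_dodecad dod0_mem dod0_mem ?_
    have hx' := Subgroup.mem_centralizer_singleton_iff.1 hx
    simp only [MulEquiv.coe_toMonoidHom, MulAut.conj_apply]
    show k * x * k⁻¹ * c0 * (k * x * k⁻¹)⁻¹ = c0
    rw [← hk, show k * x * k⁻¹ * (k * z1 * k⁻¹) * (k * x * k⁻¹)⁻¹ =
      k * (x * z1) * x⁻¹ * k⁻¹ by group, hx']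
    group
  have h1 : Nat.card C1 ∣ Nat.card (crossGroup.map Frame.bar) := by
    exact (Nat.card_congr (C1.equivMapOfInjective (MulAut.conj k).toMonoidHom
      (MulAut.conj k).injective).toEquiv) ▸ Subgroup.card_dvd_of_le hle
  have h2 := h1.trans (Subgroup.card_map_dvd crossGroup Frame.bar)
  rw [card_C1, card_crossGroup] at h2
  norm_num at h2

/-- The signs of the lift of the third involution. -/
def maskJ : Finset GolayPt := setOfMask 16375860

theorem maskJ_code : IsCode maskJ := isCode_mask (by decide +kernel)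

theorem maskJ_swap : ∀ p : GolayPt, projInv p ∈ maskJ ↔ p ∉ maskJ := by decide +kernel

theorem projInv_invol : ∀ p : GolayPt, projInv (projInv p) = p := by decide +kernel

/-- A lift squaring to minus one. -/
noncomputable def jj : Co0 := monomial projInv projInv_mem maskJ maskJ_code

theorem jj_sq : jj * jj = negOne := by
  refine co0_ext fun i => ?_
  rw [mul_smul, jj, monomial_apply_eightE, negOne_smul]
  have h := maskJ_swap i
  split_ifs with hi
  · rw [smul_neg', monomial_apply_eightE, projInv_invol, if_neg (h.1 hi)]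
  · rw [monomial_apply_eightE, projInv_invol,
      if_pos (by_contra fun hn => hi (h.2 hn))]

theorem negOne_sq : negOne * negOne = 1 :=
  Frame.mul_self_of_diag (Frame.flip_mem_diag _ isCode_univ)

theorem negOne_comm (g : Co0) : negOne * g = g * negOne :=
  (Subgroup.mem_center_iff.1 negOne_mem_center g).symm

/-- The third involution. -/
noncomputable def b0 : Spor.Co1 := Frame.bar jj

theorem b0_sq : b0 * b0 = 1 := by
  rw [b0, ← map_mul, jj_sq]; exact Frame.bar_eq_one.2 negOne_mem_center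

/-- Squares of lifts are class invariants. -/
theorem sq_invariant {x y : Co0} (h : IsConj (Frame.bar y) (Frame.bar x))
    (hy : y * y ∈ Subgroup.center Co0) : x * x = y * y := by
  obtain ⟨k, hk⟩ := isConj_iff.1 h
  obtain ⟨g, rfl⟩ := Frame.bar_surjective k
  have hc : (g * y * g⁻¹)⁻¹ * x ∈ Subgroup.center Co0 := by
    rw [← Frame.bar_eq_one, map_mul, map_inv, map_mul, map_mul, map_inv, hk, inv_mul_cancel]
  have e : g * y * g⁻¹ * (g * y * g⁻¹) = y * y := by
    rw [show g * y * g⁻¹ * (g * y * g⁻¹) = g * (y * y) * g⁻¹ by group,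
      Subgroup.mem_center_iff.1 hy g, mul_inv_cancel_right]
  rcases center_co0_eq hc with a | a
  · rw [← inv_mul_eq_one.1 a, e]
  · rw [inv_mul_eq_iff_eq_mul.1 a]
    calc g * y * g⁻¹ * negOne * (g * y * g⁻¹ * negOne)
        = g * y * g⁻¹ * (negOne * (g * y * g⁻¹)) * negOne := by simp only [mul_assoc]
      _ = g * y * g⁻¹ * (g * y * g⁻¹) * (negOne * negOne) := by
          rw [negOne_comm]; simp only [mul_assoc]
      _ = y * y := by rw [negOne_sq, mul_one, e]

theorem flip_sq {s : Finset GolayPt} (hs : IsCode s) : Leech.flip s hs * Leech.flip s hs = 1 :=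
  Frame.mul_self_of_diag (Frame.flip_mem_diag s hs)

theorem not_conj_fl_b0 {s : Finset GolayPt} (hs : IsCode s) : ¬ IsConj (fl s hs) b0 := by
  intro h
  have e := sq_invariant h (by rw [flip_sq]; exact one_mem _)
  rw [jj_sq, flip_sq] at e
  exact negOne_ne_one e

theorem not_conj_z1_b0 : ¬ IsConj z1 b0 := not_conj_fl_b0 off_compl.1

theorem not_conj_c0_b0 : ¬ IsConj c0 b0 := not_conj_fl_b0 dod0_mem.1

theorem b0_ne_one : b0 ≠ 1 := by
  intro h
  refine negOne_ne_one ?_
  rw [← jj_sq]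
  rcases center_co0_eq (Frame.bar_eq_one.1 h) with e | e <;> rw [e]
  · exact one_mul _
  · exact negOne_sq

theorem c0_ne_one : c0 ≠ 1 := fun h => by
  have := fl_eq_one dod0_mem.1 h
  have := dod0_mem.2
  omega

/-- The octad commuting with the lift. -/
def octJ : Finset GolayPt := setOfMask 208020

theorem octJ_mem : octJ ∈ octads := ⟨isCode_mask (by decide +kernel), by decide +kernel⟩

theorem projInv_fix_octJ : ∀ p : GolayPt, projInv p ∈ octJ ↔ p ∈ octJ := by decide +kernel

theorem projInv_fix_dod0 : ∀ p : GolayPt, projInv p ∈ dod0 ↔ p ∈ dod0 := by decide +kernel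

theorem jj_commute {s : Finset GolayPt} (hs : IsCode s) (h : ∀ p, projInv p ∈ s ↔ p ∈ s) :
    jj * Leech.flip s hs = Leech.flip s hs * jj := by
  rw [jj, monomial_flip]
  congr 1
  refine Leech.flip_congr _ _ ?_
  ext p
  rw [Finset.mem_map_equiv]
  have h1 := h (projInv.symm p)
  rw [Equiv.apply_symm_apply] at h1
  exact h1.symm

end Cfsg.Agent.Lib.Co1Surj52
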