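import Cfsg.Agent.Lib.Co1Surj52.Control
import Cfsg.Agent.Lib.Co1Surj52.Counts
import Cfsg.Agent.Lib.Co1Surj52.Flips
import Cfsg.Agent.Lib.Co1Type31.Main

/-!
# A copy of the Conway group containing the centraliser of an involution is the whole group

Node D of `notes/s1718_co1_uniqueness_helper31.md`.

Owner: helper52.
-/

set_option autoImplicit false

namespace Cfsg.Agent.Lib.Co1Surj52

open Cfsg Cfsg.Agent.Lib.Leech Cfsg.Agent.Lib.LeechMod2 Cfsg.Agent.Lib.Co1Cent

/-- Three classes covering three non-conjugate elements are separated by them. -/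
theorem classes_separated {X : Type*} [Monoid X] {a b c p q r : X} (hab : ¬ IsConj a b)
    (hac : ¬ IsConj a c) (hbc : ¬ IsConj b c) (ha : IsConj a p ∨ IsConj a q ∨ IsConj a r)
    (hb : IsConj b p ∨ IsConj b q ∨ IsConj b r) (hc : IsConj c p ∨ IsConj c q ∨ IsConj c r) :
    ¬ IsConj p q ∧ ¬ IsConj p r ∧ ¬ IsConj q r := by
  have key : ∀ {x y t : X}, IsConj x t → IsConj y t → IsConj x y := fun h h' => h.trans h'.symm
  refine ⟨?_, ?_, ?_⟩ <;> intro h <;> rcases ha with ha | ha | ha <;>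
    rcases hb with hb | hb | hb <;> rcases hc with hc | hc | hc <;>
    first
      | exact hab (key ha hb)
      | exact hac (key ha hc)
      | exact hbc (key hb hc)
      | exact hab (key (ha.trans h) hb)
      | exact hab (key ha (hb.trans h))
      | exact hac (key (ha.trans h) hc)
      | exact hac (key ha (hc.trans h))
      | exact hbc (key (hb.trans h) hc)
      | exact hbc (key hb (hc.trans h))

/-- Three non-conjugate elements inside three classes cover them. -/
theorem classes_covered {X : Type*} [Monoid X] {a b c p q r x : X} (hpq : ¬ IsConj p q)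
    (hpr : ¬ IsConj p r) (hqr : ¬ IsConj q r) (hp : IsConj p a ∨ IsConj p b ∨ IsConj p c)
    (hq : IsConj q a ∨ IsConj q b ∨ IsConj q c) (hr : IsConj r a ∨ IsConj r b ∨ IsConj r c)
    (hx : IsConj x a ∨ IsConj x b ∨ IsConj x c) : IsConj p x ∨ IsConj q x ∨ IsConj r x := by
  have key : ∀ {u v t : X}, IsConj u t → IsConj v t → IsConj u v := fun h h' => h.trans h'.symm
  rcases hp with hp | hp | hp <;> rcases hq with hq | hq | hq <;>
    rcases hr with hr | hr | hr <;>
    first
      | exact absurd (key hp hq) hpq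
      | exact absurd (key hp hr) hpr
      | exact absurd (key hq hr) hqr
      | (rcases hx with hx | hx | hx <;>
          first
            | exact Or.inl (key hp hx)
            | exact Or.inr (Or.inl (key hq hx))
            | exact Or.inr (Or.inr (key hr hx)))

theorem co1_classes {x : Spor.Co1} (h2 : x * x = 1) (h1 : x ≠ 1) :
    IsConj z1 x ∨ IsConj c0 x ∨ IsConj b0 x := by
  have : Finite Spor.Co1 := Nat.finite_of_card_ne_zero (by rw [Frame.card_co1]; norm_num)
  obtain ⟨z, hz, Q, hQn, hF, hE, hcard, ⟨e⟩, hw⟩ := Co1Cent.main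
  obtain ⟨a, b, c, -, -, -, -, -, -, hall⟩ :=
    Co1Type31.three_classes_of z hz Q hF hE hcard e hw
  have ho : ∀ y : Spor.Co1, y * y = 1 → y ≠ 1 → orderOf y = 2 := fun y e2 e1 =>
    orderOf_eq_prime (by rw [pow_two, e2]) e1
  exact classes_covered not_conj_z1_c0 not_conj_z1_b0 not_conj_c0_b0
    (hall _ orderOf_z1) (hall _ (ho c0 (fl_mul_self _) c0_ne_one))
    (hall _ (ho b0 b0_sq b0_ne_one)) (hall _ (ho x h2 h1))

theorem z1_sq : z1 * z1 = 1 := by
  rw [← pow_two, ← orderOf_z1, pow_orderOf_eq_one]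

theorem z1_ne_one : z1 ≠ 1 := fun h => by
  have := orderOf_z1
  rw [h, orderOf_one] at this
  omega

/-- Node D: an embedding matching the involutions is onto. -/
theorem range_eq_top {G : Type*} [Group G] [Finite G] (z : G) (hz : orderOf z = 2)
    (Q : Subgroup (Subgroup.centralizer ({z} : Set G))) [Q.Normal]
    (hF : Cfsg.generalizedFittingSubgroup (Subgroup.centralizer ({z} : Set G)) = Q)
    (hQ : Cfsg.IsExtraspecial 2 Q) (hcard : Nat.card Q = 2 ^ 9)
    (e : (Subgroup.centralizer ({z} : Set G)) ⧸ Q ≃*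
      Cfsg.Omega (ZMod 2) (Cfsg.quadFormPlus 4 (ZMod 2)))
    (hnwc : ∃ g : G, (∃ hq : g * z * g⁻¹ ∈ Subgroup.centralizer ({z} : Set G),
      (⟨g * z * g⁻¹, hq⟩ : Subgroup.centralizer ({z} : Set G)) ∈ Q) ∧ g * z * g⁻¹ ≠ z)
    (f : Spor.Co1 →* G) (hf : Function.Injective f) (hfz : f z1 = z) : f.range = ⊤ := by
  classical
  obtain ⟨co, ac, hfr⟩ := Co1Type31.exists_frame z hz _ rfl Q hF hQ hcard e
  obtain ⟨ga, gb, gc, hga, hgb, hgc, hab, hac, hbc, -⟩ :=
    Co1Type31.three_classes_of z hz Q hF hQ hcard e hnwc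
  set S := f.range with hSdef
  have hS : ∀ x, f x ∈ S := fun x => ⟨x, rfl⟩
  -- the centraliser of `z` is the image
  have hCS : ∀ g : G, g * z = z * g → ∃ x, f x = g := by
    intro g hg
    have hmap : C1.map f = Subgroup.centralizer ({z} : Set G) := by
      refine Subgroup.eq_of_le_of_card_ge ?_ ?_
      · rintro _ ⟨x, hx, rfl⟩
        rw [Subgroup.mem_centralizer_singleton_iff, ← hfz, ← map_mul, ← map_mul,
          Subgroup.mem_centralizer_singleton_iff.1 hx]
      · rw [hfr.cardC, Subgroup.card_map_of_injective hf, card_C1]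
    have hgm : g ∈ C1.map f := hmap ▸ Subgroup.mem_centralizer_singleton_iff.2 hg
    obtain ⟨x, -, hx⟩ := hgm
    exact ⟨x, hx⟩
  -- the three classes of `G`
  have hcov : ∀ x : G, x * x = 1 → x ≠ 1 →
      IsConj z x ∨ IsConj (f c0) x ∨ IsConj (f b0) x := by
    intro x h2 h1
    obtain ⟨g, hg⟩ := hfr.exists_conj_commute (orderOf_eq_prime (by rw [pow_two, h2]) h1)
    obtain ⟨y, hy⟩ := hCS _ hg.eq
    have hy2 : y * y = 1 := hf (by
      rw [map_mul, map_one, hy,
        show g * x * g⁻¹ * (g * x * g⁻¹) = g * (x * x) * g⁻¹ by group, h2]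
      group)
    have hy1 : y ≠ 1 := fun e1 => h1 (conj_eq_one_iff.1 (by rw [← hy, e1, map_one]))
    have hback : IsConj (f y) x := isConj_iff.2 ⟨g⁻¹, by rw [hy]; group⟩
    rcases co1_classes hy2 hy1 with h | h | h
    · exact Or.inl (hfz ▸ (f.map_isConj h).trans hback)
    · exact Or.inr (Or.inl ((f.map_isConj h).trans hback))
    · exact Or.inr (Or.inr ((f.map_isConj h).trans hback))
  have hinv : ∀ {x : G}, orderOf x = 2 → x * x = 1 ∧ x ≠ 1 := fun {x} h =>
    ⟨by rw [← pow_two, ← h, pow_orderOf_eq_one], fun e1 => by rw [e1, orderOf_one] at h; omega⟩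
  have hcov' : ∀ x : G, orderOf x = 2 → IsConj x z ∨ IsConj x (f c0) ∨ IsConj x (f b0) :=
    fun x h => (hcov x (hinv h).1 (hinv h).2).imp IsConj.symm (Or.imp IsConj.symm IsConj.symm)
  obtain ⟨nzc, nzb, ncb⟩ :=
    classes_separated hab hac hbc (hcov' ga hga) (hcov' gb hgb) (hcov' gc hgc)
  -- the classes of `G` meet the image in its classes
  have hback : ∀ {x : Spor.Co1}, x * x = 1 → x ≠ 1 →
      (IsConj z (f x) → IsConj z1 x) ∧ (IsConj (f c0) (f x) → IsConj c0 x) ∧
        (IsConj (f b0) (f x) → IsConj b0 x) := by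
    intro x h2 h1
    rcases co1_classes h2 h1 with h | h | h <;> have h' := f.map_isConj h
    · rw [hfz] at h'
      exact ⟨fun _ => h, fun k => absurd (h'.trans k.symm) nzc,
        fun k => absurd (h'.trans k.symm) nzb⟩
    · exact ⟨fun k => absurd (k.trans h'.symm) nzc, fun _ => h,
        fun k => absurd (h'.trans k.symm) ncb⟩
    · exact ⟨fun k => absurd (k.trans h'.symm) nzb, fun k => absurd (k.trans h'.symm) ncb,
        fun _ => h⟩
  have hmemS : ∀ y ∈ S, y * y = 1 → y ≠ 1 → ∃ x, f x = y ∧ x * x = 1 ∧ x ≠ 1 := by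
    rintro _ ⟨x, rfl⟩ h2 h1
    exact ⟨x, rfl, hf (by rw [map_mul, map_one]; exact h2), fun e1 => h1 (by rw [e1, map_one])⟩
  have hfus : ∀ r : Spor.Co1, r * r = 1 → r ≠ 1 → r = z1 ∨ r = c0 ∨ r = b0 →
      ∀ y ∈ S, IsConj (f r) y → ∃ h ∈ S, h * f r * h⁻¹ = y := by
    intro r r2 r1 hr y hy hc
    obtain ⟨k, hk⟩ := isConj_iff.1 hc
    have hfr2 : f r * f r = 1 := by rw [← map_mul, r2, map_one]
    obtain ⟨x, rfl, x2, x1⟩ := hmemS y hy
      (by rw [← hk, show k * f r * k⁻¹ * (k * f r * k⁻¹) = k * (f r * f r) * k⁻¹ by group, hfr2]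
          group)
      (fun e1 => r1 (hf (by
        rw [map_one]
        exact conj_eq_one_iff.1 (hk.trans e1))))
    obtain ⟨b1, b2, b3⟩ := hback x2 x1
    have hconj : IsConj r x := by
      rcases hr with rfl | rfl | rfl
      exacts [b1 (hfz ▸ hc), b2 hc, b3 hc]
    obtain ⟨h, hh⟩ := isConj_iff.1 hconj
    exact ⟨f h, hS h, by rw [← map_inv, ← map_mul, ← map_mul, hh]⟩
  have hfusz : ∀ y ∈ S, IsConj z y → ∃ h ∈ S, h * z * h⁻¹ = y := fun y hy hc => by
    have := hfus z1 z1_sq z1_ne_one (Or.inl rfl) y hy (hfz.symm ▸ hc)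
    rwa [hfz] at this
  have soleZ : ∀ x ∈ S, IsConj z x → Sole S x := fun x hx hc => by
    obtain ⟨h, hh, rfl⟩ := hfusz x hx hc
    exact (Sole.of_cent hfusz fun g hg => by
      obtain ⟨y, rfl⟩ := hCS g hg
      exact hS y).conj hh
  -- the sign changes
  set A := Frame.diagBar.map f with hAdef
  have hAS : A ≤ S := by rintro _ ⟨x, -, rfl⟩; exact hS x
  have hfl : ∀ {s : Finset GolayPt} (hs : IsCode s), f (fl s hs) ∈ A := fun hs =>
    ⟨_, fl_mem_diagBar hs, rfl⟩
  have hoct : ∀ {o : Finset GolayPt} (ho : o ∈ octads), IsConj z (f (fl o ho.1)) := fun ho =>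
    hfz ▸ f.map_isConj (oct_conj ho)
  have hdod : ∀ {d : Finset GolayPt} (hd : d ∈ dodecads), IsConj (f c0) (f (fl d hd.1)) := fun hd =>
    f.map_isConj (dod_conj hd)
  have hAdod : ∀ a ∈ A, IsConj (f c0) a → ∃ d, ∃ hd : d ∈ dodecads, a = f (fl d hd.1) := by
    rintro _ ⟨x, hx, rfl⟩ hc
    rcases diag_cases hx with rfl | ⟨o, ho, rfl⟩ | ⟨d, hd, rfl⟩
    · rw [map_one, isConj_one_left] at hc
      exact absurd (hf (hc.trans (map_one f).symm)) c0_ne_one
    · exact absurd ((hoct ho).trans hc.symm) nzc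
    · exact ⟨d, hd, rfl⟩
  have hz1A : z ∈ A := by
    rw [← hfz]
    exact hfl Co2Cent.off_compl.1
  have hzcnt : ∀ (V : Subgroup G), V ≤ A → (∀ v ∈ V, v ≠ 1 → IsConj (f c0) v) →
      ∃ (s : Finset G) (D : G → Finset GolayPt), (∀ v ∈ s, D v ∈ dodecads) ∧
        Nat.card V = s.card + 1 ∧
        ∀ o, ∀ ho : o ∈ octads,
          zcount z V (f (fl o ho.1)) = (s.filter fun v => (o ∩ D v).card ≠ 4).card + 1 := by
    intro V hVA hpure
    have hex : ∀ v : G, ∃ d : Finset GolayPt, v ∈ V → v ≠ 1 →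
        ∃ hd : d ∈ dodecads, v = f (fl d hd.1) := fun v => by
      by_cases hv : v ∈ V ∧ v ≠ 1
      · obtain ⟨d, hd, e1⟩ := hAdod v (hVA hv.1) (hpure v hv.1 hv.2)
        exact ⟨d, fun _ _ => ⟨hd, e1⟩⟩
      · exact ⟨∅, fun h1 h2 => absurd ⟨h1, h2⟩ hv⟩
    choose D hD using hex
    set T := Set.toFinite (V : Set G)
    refine ⟨T.toFinset.erase 1, D, fun v hv => ?_, ?_, fun o ho => ?_⟩
    · simp only [Finset.mem_erase, Set.Finite.mem_toFinset, SetLike.mem_coe] at hv
      exact (hD v hv.2 hv.1).1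
    · rw [Finset.card_erase_add_one (by simp), ← Set.ncard_eq_toFinset_card]
      exact (Nat.card_coe_set_eq (V : Set G))
    · have hone : (1 : G) ∉ (T.toFinset.erase 1).filter fun v => (o ∩ D v).card ≠ 4 := by simp
      rw [← Finset.card_insert_of_notMem hone]
      refine Eq.trans ?_ (Set.ncard_coe_finset _)
      refine congrArg Set.ncard (Set.ext fun v => ?_)
      simp only [Set.mem_ofPred_eq, Finset.coe_insert, Set.mem_insert_iff, Finset.mem_coe,
        Finset.mem_filter, Finset.mem_erase, Set.Finite.mem_toFinset, SetLike.mem_coe]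
      by_cases hv1 : v = 1
      · subst hv1
        simpa using hoct ho
      simp only [hv1, false_or, ne_eq, not_false_eq_true, true_and]
      refine and_congr_right fun hv => ?_
      obtain ⟨hd, e1⟩ := hD v hv hv1
      rw [e1, ← map_mul, ← e1]
      obtain ⟨h2, h4⟩ := fl_oct_dod ho hd
      constructor
      · intro hc h
        obtain ⟨d', hd', e2⟩ := h4 h
        rw [e2] at hc
        exact nzc (hc.trans (hdod hd').symm)
      · intro h
        obtain ⟨o', ho', e2⟩ := h2 h
        rw [e2]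
        exact hoct ho'
  have datum : ADatum S A z (f c0) := by
    refine ⟨soleZ, hAS, hfl _, fun e1 => c0_ne_one (hf (e1.trans (map_one f).symm)), ?_, ?_, nzc,
      ?_, ?_, ?_⟩
    · rintro _ ⟨x, hx, rfl⟩
      rw [← map_mul, Frame.diagBar_elem hx, map_one]
    · rintro _ ⟨x, hx, rfl⟩ h1
      rcases diag_cases hx with rfl | ⟨o, ho, rfl⟩ | ⟨d, hd, rfl⟩
      · exact absurd (map_one f) h1
      · exact Or.inl (hoct ho)
      · exact Or.inr (hdod hd)
    · intro k hk a ha a' ha' hac hac' he x hx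
      obtain ⟨k₀, rfl⟩ := hk
      obtain ⟨d, hd, rfl⟩ := hAdod a ha hac
      obtain ⟨d', hd', rfl⟩ := hAdod a' ha' hac'
      obtain ⟨x₀, hx₀, rfl⟩ := hx
      rw [← map_inv, ← map_mul, ← map_mul] at he ⊢
      exact ⟨_, cross_norm (mem_cross_of_dodecad hd hd' (hf he)) hx₀, rfl⟩
    · intro V hVA hpure
      obtain ⟨s, D, hD, -, hcount⟩ := hzcnt V hVA hpure
      obtain ⟨o, ho, heven⟩ := exists_even_count s D hD
      exact ⟨_, hfl ho.1, hoct ho, by rw [hcount o ho]; exact heven.add_one⟩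
    · intro V hVA hpure hne n
      obtain ⟨s, D, hD, hsc, hcount⟩ := hzcnt V hVA hpure
      have hA : Nat.card A = 2 ^ 11 := by
        rw [hAdef, Subgroup.card_map_of_injective hf, Frame.card_diagBar]; rfl
      obtain ⟨m, hm, hm'⟩ := (Nat.dvd_prime_pow Nat.prime_two).1 (hA ▸ Subgroup.card_dvd_of_le hVA)
      have hlt : m ≠ 11 := fun e1 => by
        have hVeq : V = A := Subgroup.eq_of_le_of_card_ge hVA (by rw [hA, hm', e1])
        exact nzc (hpure z (hVeq ▸ hz1A) (hinv hz).2).symm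
      have h2 : 1 < Nat.card V := by
        have := (not_congr Subgroup.card_eq_one).2 hne
        have := Nat.card_pos (α := V)
        omega
      have h23 : ¬ 23 ∣ s.card := by
        rw [hm'] at hsc h2
        interval_cases m <;> omega
      obtain ⟨o, ho, hno⟩ := exists_ne_count s D hD h23 (n - 1)
      exact ⟨_, hfl ho.1, hoct ho, by rw [hcount o ho]; omega⟩
  have soleC : ∀ x ∈ S, IsConj (f c0) x → Sole S x := fun x hx hc => by
    have hfc := hfus c0 (fl_mul_self _) c0_ne_one (Or.inr (Or.inl rfl))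
    obtain ⟨h, hh, rfl⟩ := hfc x hx hc
    exact (Sole.of_cent hfc fun g hg => datum.cent_c_le hg).conj hh
  have soleB : ∀ x ∈ S, IsConj (f b0) x → Sole S x := fun x hx hc => by
    have hfb := hfus b0 b0_sq b0_ne_one (Or.inr (Or.inr rfl))
    obtain ⟨h, hh, rfl⟩ := hfb x hx hc
    have bd : BDatum S z (f c0) (f b0) (f.comp Frame.bar) negOne jj
        (Leech.flip octJ octJ_mem.1) (Leech.flip dod0 dod0_mem.1) := by
      refine ⟨?_, ?_, ?_, negOne_comm, negOne_sq, negOne_ne_one, rfl, jj_sq, flip_sq _, flip_sq _,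
        (jj_commute _ projInv_fix_octJ).symm, (jj_commute _ projInv_fix_dod0).symm, hoct octJ_mem,
        IsConj.refl _, ?_⟩
      · rw [MonoidHom.range_comp, MonoidHom.range_eq_top.2 Frame.bar_surjective, hSdef,
          MonoidHom.range_eq_map]
      · exact fun y hy => center_co0_eq (Frame.bar_eq_one.1 (hf (hy.trans (map_one f).symm)))
      · show f (Frame.bar negOne) = 1
        rw [Frame.bar_eq_one.2 negOne_mem_center, map_one]
      · intro y hy
        obtain ⟨k, hk, hky⟩ := hfb _ (hS _) hy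
        obtain ⟨k₀, rfl⟩ := hk
        have hc1 : IsConj b0 (Frame.bar y) := isConj_iff.2 ⟨k₀, hf (by
          rw [map_mul, map_mul, map_inv]; exact hky)⟩
        rw [sq_invariant hc1 (by rw [jj_sq]; exact negOne_mem_center), jj_sq]
    exact (Sole.of_cent hfb fun g hg => bd.cent_b_le nzc hcov
      (fun y hy h' => h'.elim (soleZ y hy) (soleC y hy)) hg).conj hh
  refine eq_top_of_sole (hinv hz).1 ?_ (hfz ▸ hS z1) (hS c0) nzc (fun x hx h2 h1 => ?_) (hinv hz).2
    (fun e1 => c0_ne_one (hf (e1.trans (map_one f).symm)))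
  · rw [← map_mul]; exact (congrArg f (fl_mul_self dod0_mem.1)).trans (map_one f)
  · rcases hcov x h2 h1 with h | h | h
    exacts [soleZ x hx h, soleC x hx h, soleB x hx h]

end Cfsg.Agent.Lib.Co1Surj52
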