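import Mathlib.GroupTheory.OrderOfElement
import Mathlib.Algebra.Group.Subgroup.Basic
import Mathlib.Tactic.Group

/-!
# Two involutions that are not conjugate in a subgroup containing them

The central involution of the dihedral group they generate, and the conjugates it produces, with
the conjugating elements kept inside the subgroup.

Owner: helper52.
-/

set_option autoImplicit false

namespace Cfsg.Agent.Lib.Co1Surj52

variable {G : Type*} [Group G]

/-- Conjugation of the two generators by a power of their product. -/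
theorem dihedral_conj {u v : G} (hu : u * u = 1) (hv : v * v = 1) (j : ℕ) :
    u * ((u * v) ^ j)⁻¹ = (u * v) ^ j * u ∧
    (u * v) ^ j * u * ((u * v) ^ j)⁻¹ = (u * v) ^ (2 * j) * u ∧
    (u * v) ^ j * v * ((u * v) ^ j)⁻¹ = (u * v) ^ (2 * j) * v := by
  have hui : u⁻¹ = u := inv_eq_of_mul_eq_one_right hu
  have hvi : v⁻¹ = v := inv_eq_of_mul_eq_one_right hv
  have key : ∀ k : ℕ, u * ((u * v) ^ k)⁻¹ = (u * v) ^ k * u := by
    intro k
    induction k with
    | zero => simp
    | succ k ih =>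
      conv_lhs => rw [pow_succ, mul_inv_rev, mul_inv_rev, hui, hvi]
      rw [show u * (v * u * ((u * v) ^ k)⁻¹) = u * v * (u * ((u * v) ^ k)⁻¹) by group, ih,
        pow_succ', mul_assoc, mul_assoc, mul_assoc]
  have h1 : (u * v) ^ j * u * ((u * v) ^ j)⁻¹ = (u * v) ^ (2 * j) * u := by
    rw [mul_assoc, key, ← mul_assoc, ← pow_add, two_mul]
  refine ⟨key j, h1, ?_⟩
  have hc : (u * v) * ((u * v) ^ j)⁻¹ = ((u * v) ^ j)⁻¹ * (u * v) :=
    ((Commute.refl (u * v)).pow_right j).inv_right.eq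
  calc (u * v) ^ j * v * ((u * v) ^ j)⁻¹
      = (u * v) ^ j * u * ((u * v) * ((u * v) ^ j)⁻¹) := by
        rw [← mul_assoc ((u * v) ^ j * u), mul_assoc ((u * v) ^ j) u (u * v), ← mul_assoc u u v,
          hu, one_mul]
    _ = (u * v) ^ j * u * ((u * v) ^ j)⁻¹ * (u * v) := by rw [hc, mul_assoc _ ((u * v) ^ j)⁻¹]
    _ = (u * v) ^ (2 * j) * u * (u * v) := by rw [h1]
    _ = (u * v) ^ (2 * j) * v := by
        rw [mul_assoc, ← mul_assoc u u v, hu, one_mul]

/-- Two involutions of `L` which are not conjugate in `L` commute with an involution of `L`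
whose products with them are conjugate in `L` to one of them. -/
theorem exists_central [Finite G] {L : Subgroup G} {u v : G} (huL : u ∈ L) (hvL : v ∈ L)
    (hu : u * u = 1) (hv : v * v = 1) (hnc : ∀ k ∈ L, k * u * k⁻¹ ≠ v) :
    ∃ e ∈ L, e ≠ 1 ∧ e * e = 1 ∧ e * u = u * e ∧ e * v = v * e ∧
      (∃ k ∈ L, k * u * k⁻¹ = u * e ∨ k * v * k⁻¹ = u * e) ∧
      (∃ k ∈ L, k * u * k⁻¹ = v * e ∨ k * v * k⁻¹ = v * e) := by
  set x := u * v with hx
  have hxL : x ∈ L := mul_mem huL hvL
  have hpos : 0 < orderOf x := orderOf_pos x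
  have hvi : v⁻¹ = v := inv_eq_of_mul_eq_one_right hv
  have hui : u⁻¹ = u := inv_eq_of_mul_eq_one_right hu
  have hxu : x⁻¹ * u = v := by rw [hx, mul_inv_rev, hvi, hui, mul_assoc, hu, mul_one]
  rcases Nat.even_or_odd' (orderOf x) with ⟨m, hm | hm⟩
  swap
  · exfalso
    refine hnc (x ^ m) (pow_mem hxL m) ?_
    have h := (dihedral_conj hu hv m).2.1
    rw [← hx] at h
    rw [h, show x ^ (2 * m) = x⁻¹ from eq_inv_of_mul_eq_one_left
      (by rw [← pow_succ, ← hm, pow_orderOf_eq_one]), hxu]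
  have hee : x ^ m * x ^ m = 1 := by rw [← pow_add, ← two_mul, ← hm, pow_orderOf_eq_one]
  have hei : (x ^ m)⁻¹ = x ^ m := inv_eq_of_mul_eq_one_right hee
  have heu : x ^ m * u = u * x ^ m := by
    conv_rhs => rw [← hei]
    exact (dihedral_conj hu hv m).1.symm
  have hev : x ^ m * v = v * x ^ m := by
    have hce : Commute (x ^ m) x := (Commute.refl x).pow_left m
    have h2 : v = u * x := by rw [hx, ← mul_assoc, hu, one_mul]
    rw [h2]
    exact (Commute.mul_right (show Commute (x ^ m) u from heu) hce).eq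
  refine ⟨x ^ m, pow_mem hxL m, ?_, hee, heu, hev, ?_, ?_⟩
  · exact pow_ne_one_of_lt_orderOf (by omega) (by omega)
  · rcases Nat.even_or_odd' m with ⟨j, hj | hj⟩
    · refine ⟨x ^ j, pow_mem hxL j, Or.inl ?_⟩
      rw [(dihedral_conj hu hv j).2.1, ← heu, hj]
    · refine ⟨x ^ (j + 1), pow_mem hxL _, Or.inr ?_⟩
      have h := (dihedral_conj hu hv (j + 1)).2.2
      rw [← hx] at h
      rw [h, ← heu, show 2 * (j + 1) = m + 1 by omega, pow_succ, mul_assoc,
        show x * v = u by rw [hx, mul_assoc, hv, mul_one]]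
  · rcases Nat.even_or_odd' m with ⟨j, hj | hj⟩
    · refine ⟨x ^ j, pow_mem hxL j, Or.inr ?_⟩
      rw [(dihedral_conj hu hv j).2.2, ← hev, hj]
    · refine ⟨x ^ j, pow_mem hxL _, Or.inl ?_⟩
      have h := (dihedral_conj hu hv j).2.1
      rw [← hx] at h
      rw [h, ← hev, hj, pow_succ, mul_assoc,
        show x * v = u by rw [hx, mul_assoc, hv, mul_one]]

end Cfsg.Agent.Lib.Co1Surj52
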